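import Cfsg.Agent.H43.L33Y
import Cfsg.Agent.H86.L33F
import Cfsg.Agent.H67.L33.Final
import Cfsg.Agent.CharBase.Ortho
import Cfsg.Agent.C2Ab.RtCD
import Cfsg.Agent.C2Ab.L33D
import Cfsg.Agent.H11.L33Z
import Cfsg.Agent.H20.Residual
import Cfsg.Agent.ClassBase.RelHom
import Cfsg.Agent.Fus.MatM11

/-! S3668, piece L33: assembly. -/

set_option autoImplicit false

namespace Cfsg.Agent.C2Ab.L33

open Cfsg Cfsg.Agent Subgroup Cfsg.Agent.H43.L33Y

universe u

variable {G : Type u} [Group G] [Finite G] {χ ψ θ : IrrCharacter G}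

/-- the centralizer in `C(t)` of an element of order three has order 6 -/
theorem card_cw (D : YD χ ψ θ) {t : G} (ht : orderOf t = 2)
    (w : centralizer ({t} : Set G)) (hw : orderOf w = 3) :
    Nat.card (centralizer ({w} : Set (centralizer ({t} : Set G)))) = 6 := by
  have hw' : orderOf (w : G) = 3 := by rw [Subgroup.orderOf_coe, hw]
  have htw : t * (w : G) = (w : G) * t := (mem_centralizer_singleton_iff.1 w.2).symm
  have h54 := (cw D ht hw' htw).1
  have h48 := (cent48 D ht).2
  have htC : t ∈ centralizer ({t} : Set G) := mem_centralizer_singleton_iff.2 rfl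
  -- divides 48
  have d1 : Nat.card (centralizer ({w} : Set (centralizer ({t} : Set G)))) ∣ 48 := by
    rw [← h48]; exact Subgroup.card_subgroup_dvd_card _
  -- divides 54
  have d2 : Nat.card (centralizer ({w} : Set (centralizer ({t} : Set G)))) ∣ 54 := by
    have e1 : Nat.card (centralizer ({w} : Set (centralizer ({t} : Set G)))) =
        Nat.card ((centralizer ({w} : Set (centralizer ({t} : Set G)))).map (centralizer ({t} : Set G)).subtype) :=
      (Subgroup.card_map_of_injective (Subgroup.subtype_injective _)).symm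
    rw [e1, ← h54]
    refine Subgroup.card_dvd_of_le ?_
    rintro _ ⟨x, hx, rfl⟩
    rw [mem_centralizer_singleton_iff]
    have := mem_centralizer_singleton_iff.1 hx
    exact congrArg Subtype.val this
  -- 2 and 3 divide
  have d3 : 3 ∣ Nat.card (centralizer ({w} : Set (centralizer ({t} : Set G)))) := by
    have := Subgroup.orderOf_dvd_natCard (centralizer ({w} : Set (centralizer ({t} : Set G))))
      (mem_centralizer_singleton_iff.2 rfl : w ∈ centralizer ({w} : Set (centralizer ({t} : Set G))))
    rwa [hw] at this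
  have d4 : 2 ∣ Nat.card (centralizer ({w} : Set (centralizer ({t} : Set G)))) := by
    have hm : (⟨t, htC⟩ : centralizer ({t} : Set G)) ∈ centralizer ({w} : Set (centralizer ({t} : Set G))) :=
      mem_centralizer_singleton_iff.2 (Subtype.ext htw)
    have := Subgroup.orderOf_dvd_natCard _ hm
    have h2 : orderOf (⟨t, htC⟩ : centralizer ({t} : Set G)) = 2 := by rw [← Subgroup.orderOf_coe]; exact ht
    rwa [h2] at this
  have d5 : Nat.card (centralizer ({w} : Set (centralizer ({t} : Set G)))) ∣ 6 := by
    have := Nat.dvd_gcd d1 d2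
    norm_num at this
    exact this
  have d6 : 6 ∣ Nat.card (centralizer ({w} : Set (centralizer ({t} : Set G)))) := by
    have := Nat.Coprime.mul_dvd_of_dvd_of_dvd (by norm_num : Nat.Coprime 2 3) d4 d3
    simpa using this
  exact Nat.dvd_antisymm d5 d6

theorem exists_w (D : YD χ ψ θ) {t : G} (ht : orderOf t = 2) :
    ∃ w : centralizer ({t} : Set G), orderOf w = 3 := by
  haveI : Fact (Nat.Prime 3) := ⟨by norm_num⟩
  exact exists_prime_orderOf_dvd_card' 3 (by rw [(cent48 D ht).2]; norm_num)

/-- elements of order four have `χ = 0` -/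
theorem chi4 (D : YD χ ψ θ) {v : G} (hv : orderOf v = 4) : (χ : G → ℂ) v = 0 := by
  rcases val4 D hv with h | h
  · exact h.1
  · exfalso
    have ht : orderOf (v ^ 2) = 2 := by rw [orderOf_pow, hv]; decide
    have hle : centralizer ({v} : Set G) ≤ centralizer ({v ^ 2} : Set G) := by
      intro g hg
      rw [mem_centralizer_singleton_iff] at hg ⊢
      exact (Commute.pow_right hg 2)
    have heq : centralizer ({v} : Set G) = centralizer ({v ^ 2} : Set G) :=
      Subgroup.eq_of_le_of_card_ge hle (by rw [h.2, (cent48 D ht).2])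
    obtain ⟨w, hw⟩ := exists_w D ht
    have h6 := card_cw D ht w hw
    have hvC : v ∈ centralizer ({v ^ 2} : Set G) := by
      rw [← heq]; exact mem_centralizer_singleton_iff.2 rfl
    have hwv : (w : G) * v = v * (w : G) := by
      have h9 : (w : G) ∈ centralizer ({v} : Set G) := by rw [heq]; exact w.2
      exact mem_centralizer_singleton_iff.1 h9
    have hm : (⟨v, hvC⟩ : centralizer ({v ^ 2} : Set G)) ∈
        centralizer ({w} : Set (centralizer ({v ^ 2} : Set G))) :=
      mem_centralizer_singleton_iff.2 (Subtype.ext hwv.symm)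
    have h4 := Subgroup.orderOf_dvd_natCard _ hm
    rw [h6, ← Subgroup.orderOf_coe] at h4
    have h5 : orderOf ((⟨v, hvC⟩ : centralizer ({v ^ 2} : Set G)) : G) = 4 := hv
    rw [h5] at h4
    norm_num at h4

theorem card_le_mul' {G : Type*} [Group G] {X Y : Subgroup G} [Finite X] {A : Type*} [Finite A]
    (f : G → A) (hY : Y ≤ X) (hf : ∀ x ∈ X, ∀ y ∈ X, f x = f y → x⁻¹ * y ∈ Y) :
    Nat.card X ≤ Nat.card A * Nat.card Y := by
  have h1 : Nat.card X = Nat.card (X ⧸ Y.subgroupOf X) * Nat.card (Y.subgroupOf X) :=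
    Subgroup.card_eq_card_quotient_mul_card_subgroup _
  have h2 : Nat.card (Y.subgroupOf X) = Nat.card Y :=
    Nat.card_congr (Subgroup.subgroupOfEquivOfLe hY).toEquiv
  have h3 : Nat.card (X ⧸ Y.subgroupOf X) ≤ Nat.card A := by
    refine Nat.card_le_card_of_injective (fun q => f (q.out : X)) (fun q q' h => ?_)
    have h4 := hf _ (q.out : X).2 _ (q'.out : X).2 h
    have h5 : ((q.out : X) : X ⧸ Y.subgroupOf X) = ((q'.out : X) : X ⧸ Y.subgroupOf X) := by
      rw [QuotientGroup.eq, Subgroup.mem_subgroupOf]
      simpa using h4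
    simpa using h5
  rw [h1, h2]
  exact Nat.mul_le_mul_right _ h3

/-- number of involutions outside an elementary abelian subgroup of order 8 and index 2 -/
theorem four_dvd {T : Type*} [Group T] [Finite T] (hT : Nat.card T = 16) (Q : Subgroup T)
    (hQ : Nat.card Q = 8) (hq : ∀ q ∈ Q, q * q = 1) :
    4 ∣ Nat.card {x : T // x ∉ Q ∧ x * x = 1} := by
  classical
  by_cases hex : ∃ s : T, s ∉ Q ∧ s * s = 1
  · obtain ⟨s, hs, hs2⟩ := hex
    have hidx : Q.index = 2 := by
      have := Q.card_mul_index
      rw [hT, hQ] at this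
      omega
    have hsi : s⁻¹ = s := inv_eq_of_mul_eq_one_right hs2
    have hinv : ∀ q ∈ Q, q⁻¹ = q := fun q h => inv_eq_of_mul_eq_one_right (hq q h)
    have hcomm : ∀ a ∈ Q, ∀ b ∈ Q, a * b = b * a := by
      intro a ha b hb
      have h1 := hinv _ (Q.mul_mem ha hb)
      rw [mul_inv_rev, hinv a ha, hinv b hb] at h1
      exact h1.symm
    have hnorm : ∀ q ∈ Q, s * q * s ∈ Q := by
      intro q h
      have := (Subgroup.normal_of_index_eq_two hidx).conj_mem q h s
      rwa [hsi] at this
    let K : Subgroup T := Q ⊓ centralizer {s}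
    have hKQ : K ≤ Q := inf_le_left
    have hmem : ∀ {q : T}, q ∈ K ↔ q ∈ Q ∧ q * s = s * q := by
      intro q
      rw [Subgroup.mem_inf, mem_centralizer_singleton_iff]
    -- the map
    have hφ : ∀ q ∈ Q, q * (s * q * s) ∈ K := by
      intro q h
      refine hmem.2 ⟨Q.mul_mem h (hnorm q h), ?_⟩
      have h1 := hcomm q h _ (hnorm q h)
      calc q * (s * q * s) * s = q * (s * q) * (s * s) := by group
        _ = q * (s * q) := by rw [hs2, mul_one]
        _ = (s * s) * (q * (s * q)) := by rw [hs2, one_mul]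
        _ = s * ((s * q * s) * q) := by group
        _ = s * (q * (s * q * s)) := by rw [← h1]
    have hcard : Nat.card Q ≤ Nat.card K * Nat.card K := by
      refine card_le_mul' (X := Q) (Y := K) (A := K)
        (fun q => if h : q ∈ Q then ⟨q * (s * q * s), hφ q h⟩ else 1) hKQ ?_
      intro x hx y hy hxy
      rw [dif_pos hx, dif_pos hy] at hxy
      have h1 : x * (s * x * s) = y * (s * y * s) := congrArg Subtype.val hxy
      rw [hinv x hx]
      refine hmem.2 ⟨Q.mul_mem hx hy, ?_⟩
      -- `s (x y) s = x y`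
      have h2 : y * x = (s * y * s) * (s * x * s) := by
        have h3 : y * (x * (s * x * s)) * (s * x * s) = y * (y * (s * y * s)) * (s * x * s) := by
          rw [h1]
        have h4 : (s * x * s) * (s * x * s) = 1 := hq _ (hnorm x hx)
        calc y * x = y * x * ((s * x * s) * (s * x * s)) := by rw [h4, mul_one]
          _ = y * (x * (s * x * s)) * (s * x * s) := by group
          _ = y * (y * (s * y * s)) * (s * x * s) := h3
          _ = (y * y) * ((s * y * s) * (s * x * s)) := by group
          _ = (s * y * s) * (s * x * s) := by rw [hq y hy, one_mul]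
      have h5 : (s * y * s) * (s * x * s) = s * (y * x) * s := by
        calc (s * y * s) * (s * x * s) = s * y * (s * s) * x * s := by group
          _ = s * (y * x) * s := by rw [hs2, mul_one]; group
      rw [h5] at h2
      rw [hcomm x hx y hy]
      calc y * x * s = s * (y * x) * s * s := by rw [← h2]
        _ = s * (y * x) * (s * s) := by group
        _ = s * (y * x) := by rw [hs2, mul_one]
    have hdvd : Nat.card K ∣ 8 := by rw [← hQ]; exact Subgroup.card_dvd_of_le hKQ
    have h4 : 4 ∣ Nat.card K := by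
      have hle := Nat.le_of_dvd (by norm_num) hdvd
      rw [hQ] at hcard
      generalize Nat.card K = c at hdvd hcard hle ⊢
      interval_cases c <;> revert hdvd hcard <;> decide
    have hbij : Nat.card {x : T // x ∉ Q ∧ x * x = 1} = Nat.card K := by
      refine Nat.card_congr
        { toFun := fun x => ⟨x.1 * s, hmem.2 ?_⟩
          invFun := fun k => ⟨k.1 * s, ?_, ?_⟩
          left_inv := fun x => Subtype.ext (by show x.1 * s * s = x.1; rw [mul_assoc, hs2, mul_one])
          right_inv := fun k => Subtype.ext (by show k.1 * s * s = k.1; rw [mul_assoc, hs2, mul_one]) }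
      · have hx1 : x.1 * s ∈ Q := (Subgroup.mul_mem_iff_of_index_two hidx).2 (by
          simp [x.2.1, hs])
        refine ⟨hx1, ?_⟩
        have h6 : (x.1 * s) * (x.1 * s) = 1 := hq _ hx1
        have h7 : x.1 * s * s = x.1 := by rw [mul_assoc, hs2, mul_one]
        -- `x s x s = 1`, `x x = 1`
        have h8 : s * x.1 * s = x.1 := by
          calc s * x.1 * s = (x.1 * x.1) * (s * x.1 * s) := by rw [x.2.2, one_mul]
            _ = x.1 * ((x.1 * s) * (x.1 * s)) := by group
            _ = x.1 := by rw [h6, mul_one]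
        rw [h7]
        calc x.1 = s * x.1 * s := h8.symm
          _ = s * (x.1 * s) := by group
      · intro hk
        have := (Q.mul_mem_cancel_left (hmem.1 k.2).1).1 hk
        exact hs this
      · have h9 := hmem.1 k.2
        calc (k.1 * s) * (k.1 * s) = k.1 * (s * k.1) * s := by group
          _ = k.1 * (k.1 * s) * s := by rw [h9.2]
          _ = (k.1 * k.1) * (s * s) := by group
          _ = 1 := by rw [hq _ h9.1, hs2, mul_one]
    rw [hbij]; exact h4
  · have : IsEmpty {x : T // x ∉ Q ∧ x * x = 1} := ⟨fun x => hex ⟨x.1, x.2⟩⟩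
    rw [Nat.card_of_isEmpty]
    exact dvd_zero _


theorem no_elem8 (D : YD χ ψ θ) {t : G} (ht : orderOf t = 2)
    (Q : Subgroup (centralizer ({t} : Set G))) (hQ8 : Nat.card Q = 8) : ∃ q ∈ Q, q * q ≠ 1 := by
  classical
  by_contra hcon
  push Not at hcon
  haveI : Fact (Nat.Prime 2) := ⟨Nat.prime_two⟩
  have h48 : Nat.card (centralizer ({t} : Set G)) = 48 := (cent48 D ht).2
  obtain ⟨T, hQT⟩ := (IsPGroup.of_card (p := 2) (n := 3) (by rw [hQ8]; norm_num) :
    IsPGroup 2 Q).exists_le_sylow
  have hT : Nat.card (T : Subgroup (centralizer ({t} : Set G))) = 16 := by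
    rw [T.card_eq_multiplicity, h48]
    have : (48 : ℕ).factorization 2 = 4 := by
      rw [show (48 : ℕ) = 2 ^ 4 * 3 by norm_num, Nat.factorization_mul (by norm_num) (by norm_num),
        Nat.Prime.factorization_pow Nat.prime_two]
      simp [Nat.factorization_eq_zero_of_not_dvd (show ¬ 2 ∣ 3 by norm_num)]
    rw [this]; norm_num
  set Q' : Subgroup (T : Subgroup (centralizer ({t} : Set G))) := Q.subgroupOf T with hQ'
  have hQ'8 : Nat.card Q' = 8 := by
    rw [← hQ8]
    exact Nat.card_congr (Subgroup.subgroupOfEquivOfLe hQT).toEquiv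
  have hQ'q : ∀ q ∈ Q', q * q = 1 := fun q hq => Subtype.ext (hcon _ hq)
  have h4 := four_dvd hT Q' hQ'8 hQ'q
  have hidx : Q'.index = 2 := by
    have := Q'.card_mul_index
    rw [hT, hQ'8] at this
    omega
  letI : Fintype (T : Subgroup (centralizer ({t} : Set G))) := Fintype.ofFinite _
  have hc : IsCharacter (T : Subgroup (centralizer ({t} : Set G))) (fun x => (χ : G → ℂ) (x : centralizer ({t} : Set G))) :=
    CharBase.isCharacter_comp (CharBase.irr_isCharacter χ) ((centralizer ({t} : Set G)).subtype.comp (T : Subgroup (centralizer ({t} : Set G))).subtype)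
  obtain ⟨n, hn⟩ := RtCD.nat_of_hom hc 1
  rw [hT] at hn
  have hval : ∀ x : (T : Subgroup (centralizer ({t} : Set G))), (χ : G → ℂ) (x : centralizer ({t} : Set G)) * (1 : (T : Subgroup (centralizer ({t} : Set G))) →* ℂ) x⁻¹ =
      (if x * x = 1 then 4 else 0) + (if x = 1 then 8 else 0) := by
    intro x
    rw [MonoidHom.one_apply, mul_one]
    by_cases h1 : x = 1
    · subst h1
      simp only [mul_one, if_true]
      rw [show (((1 : (T : Subgroup (centralizer ({t} : Set G)))) : centralizer ({t} : Set G)) : G) = 1 from rfl, D.d1]; norm_num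
    · rw [if_neg h1, add_zero]
      by_cases h2 : x * x = 1
      · rw [if_pos h2]
        have h3 : orderOf ((x : centralizer ({t} : Set G)) : G) = 2 := by
          rw [Subgroup.orderOf_coe, Subgroup.orderOf_coe]
          exact orderOf_eq_prime (by rw [sq]; exact h2) h1
        exact (cent48 D h3).1
      · rw [if_neg h2]
        have h3 : orderOf ((x : centralizer ({t} : Set G)) : G) = 4 := by
          rw [Subgroup.orderOf_coe, Subgroup.orderOf_coe]
          have h5 : x * x ∈ Q' := (Subgroup.mul_mem_iff_of_index_two hidx).2 Iff.rfl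
          have h6 := hQ'q _ h5
          have := orderOf_eq_prime_pow (p := 2) (n := 1) (x := x) (by rw [pow_one, sq]; exact h2)
            (by rw [show 2 ^ (1 + 1) = 4 by norm_num, show (4 : ℕ) = 2 + 2 by norm_num, pow_add, sq]; exact h6)
          simpa using this
        exact chi4 D h3
  rw [Finset.sum_congr rfl fun x _ => hval x, Finset.sum_add_distrib, Finset.sum_ite_eq'] at hn
  simp only [Finset.mem_univ, if_true] at hn
  have hN : ∑ x : (T : Subgroup (centralizer ({t} : Set G))), (if x * x = 1 then (4 : ℂ) else 0) =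
      4 * (8 + Nat.card {x : (T : Subgroup (centralizer ({t} : Set G))) // x ∉ Q' ∧ x * x = 1} : ℕ) := by
    rw [← Finset.sum_filter, Finset.sum_const, nsmul_eq_mul, mul_comm]
    congr 2
    have e1 : (Finset.univ.filter fun x : (T : Subgroup (centralizer ({t} : Set G))) => x * x = 1).card =
        (Finset.univ.filter fun x : (T : Subgroup (centralizer ({t} : Set G))) => x ∈ Q').card +
        (Finset.univ.filter fun x : (T : Subgroup (centralizer ({t} : Set G))) => x ∉ Q' ∧ x * x = 1).card := by
      rw [← Finset.card_union_of_disjoint]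
      · congr 1
        ext x
        simp only [Finset.mem_filter, Finset.mem_univ, true_and, Finset.mem_union]
        constructor
        · intro h
          by_cases hx : x ∈ Q'
          · exact Or.inl hx
          · exact Or.inr ⟨hx, h⟩
        · rintro (h | h)
          · exact hQ'q x h
          · exact h.2
      · rw [Finset.disjoint_left]
        intro x hx hx'
        exact (Finset.mem_filter.1 hx').2.1 (Finset.mem_filter.1 hx).2
    rw [e1]
    congr 1
    · rw [← hQ'8, Nat.card_eq_fintype_card, Fintype.card_subtype]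
    · rw [Nat.card_eq_fintype_card, Fintype.card_subtype]
  rw [hN] at hn
  have h7 : 4 * (8 + Nat.card {x : (T : Subgroup (centralizer ({t} : Set G))) // x ∉ Q' ∧ x * x = 1}) + 8 = n * 16 := by
    exact_mod_cast hn
  obtain ⟨k, hk⟩ := h4
  rw [hk] at h7
  omega

theorem not_comm (hG : Nat.card G = 5616) [IsSimpleGroup G] : ¬ IsMulCommutative G := by
  intro hc
  letI : CommGroup G := { (inferInstance : Group G) with mul_comm := fun a b => hc.is_comm.comm a b }
  have h := IsSimpleGroup.prime_card (α := G)
  rw [hG] at h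
  revert h
  norm_num

theorem resid [IsSimpleGroup G] (hG : Nat.card G = 5616) : Cfsg.pResidual 2 G = ⊤ := by
  rw [H20.pResidual_two_eq_top_iff]
  intro H hH
  have hn : H.Normal := Subgroup.normal_of_index_eq_two hH
  rcases hn.eq_bot_or_eq_top with h | h
  · rw [h, Subgroup.index_bot, hG] at hH
    omega
  · rw [h, Subgroup.index_top] at hH
    omega

/-- the assembly -/
theorem iso_of [IsSimpleGroup G] (D : YD χ ψ θ)
    (hex : ∀ t : G, orderOf t = 2 → ∃ s : G, s ≠ 1 ∧ s * s = 1 ∧ s ≠ t ∧ s * t = t * s) :
    Nonempty (G ≃* Matrix.ProjectiveSpecialLinearGroup (Fin 3) (ZMod 3)) := by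
  haveI : Fact (Nat.Prime 2) := ⟨Nat.prime_two⟩
  obtain ⟨t, ht⟩ := exists_prime_orderOf_dvd_card' (G := G) 2 (by rw [D.hG]; norm_num)
  obtain ⟨s, hs1, hs2, hst, hc⟩ := hex t ht
  obtain ⟨w, hw⟩ := exists_w D ht
  have ht2 : t * t = 1 := by rw [← sq, ← ht, pow_orderOf_eq_one]
  have ht1 : t ≠ 1 := fun e => by rw [e, orderOf_one] at ht; omega
  have hgl := H86.L33F.gl23_of (C := centralizer ({t} : Set G)) (cent48 D ht).2
    (t := ⟨t, mem_centralizer_singleton_iff.2 rfl⟩) (w := w)
    (s := ⟨s, mem_centralizer_singleton_iff.2 hc⟩)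
    (fun e => ht1 (congrArg Subtype.val e)) (Subtype.ext ht2)
    (fun g => Subtype.ext (mem_centralizer_singleton_iff.1 g.2)) hw (card_cw D ht w hw)
    (fun Q _ hQ => no_elem8 D ht Q hQ) (fun e => hs1 (congrArg Subtype.val e))
    (Subtype.ext hs2) (fun e => hst (congrArg Subtype.val e))
  rcases H67.L33.centralizer_gl23 (resid D.hG) t ht hgl with ⟨F, _, _, hF, ⟨e⟩⟩ | h
  · exact ⟨e.trans (ClassBase.pslCongr (FiniteField.ringEquivOfCardEq (by
      rw [← Nat.card_eq_fintype_card, ← Nat.card_eq_fintype_card] at *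
      rw [hF, Nat.card_zmod])))⟩
  · exfalso
    obtain ⟨e⟩ := h
    have h1 := Nat.card_congr e.toEquiv
    rw [D.hG, Fus.Mat.card_M11'] at h1
    omega

/-- A simple group of order 5616 is `PSL(3, 3)`. -/
theorem iso33 {G : Type u} [Group G] [Finite G] [IsSimpleGroup G] (h : Nat.card G = 5616) :
    Nonempty (G ≃* Matrix.ProjectiveSpecialLinearGroup (Fin 3) (ZMod 3)) := by
  obtain ⟨χ, ψ, θ, D⟩ := L33D.data h
  refine iso_of D fun t ht => H11.L33Z.exists_invol (not_comm h) ht ?_ ?_
  · rw [(cent48 D ht).2]; norm_num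
  · rw [h]; norm_num

end Cfsg.Agent.C2Ab.L33
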